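import Groth.Agent.DeRhamBasic.BaseChange
import Mathlib.RingTheory.Flat.Basic
import Mathlib.LinearAlgebra.TensorProduct.RightExactness

/-! Closed and exact forms under a field extension. -/

set_option autoImplicit false
set_option linter.style.haveILetI false
universe u
open exteriorPower TensorProduct

namespace Groth.Agent.DeRhamFieldExt

section Abstract

variable {k K : Type u} [Field k] [Field K] [Algebra k K]
  {M N : Type u} [AddCommGroup M] [Module k M] [AddCommGroup N] [Module k N]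
  {M' N' : Type u} [AddCommGroup M'] [Module K M'] [AddCommGroup N'] [Module K N']
  [Module k M'] [IsScalarTower k K M'] [Module k N'] [IsScalarTower k K N']

omit [Module k M'] [IsScalarTower k K M'] in
theorem main (ΦM : (K ⊗[k] M) →ₗ[K] M') (hM : Function.Bijective ΦM) (ΦN : (K ⊗[k] N) →ₗ[K] N')
    (hN : Function.Bijective ΦN) (f : M →ₗ[k] N) (f' : M' →ₗ[K] N')
    (hf : ∀ x, f' (ΦM (1 ⊗ₜ x)) = ΦN (1 ⊗ₜ f x)) :
    Submodule.span K ((fun x => ΦM (1 ⊗ₜ x)) '' (LinearMap.ker f : Set M)) = LinearMap.ker f' ∧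
      Submodule.span K ((fun y => ΦN (1 ⊗ₜ y)) '' (LinearMap.range f : Set N)) = LinearMap.range f' := by
  have hcomm : f' ∘ₗ ΦM = ΦN ∘ₗ f.baseChange K := TensorProduct.AlgebraTensorModule.ext fun s x => by
    have e : s ⊗ₜ[k] x = s • ((1 : K) ⊗ₜ[k] x) := by rw [TensorProduct.smul_tmul', smul_eq_mul, mul_one]
    have e' : s ⊗ₜ[k] f x = s • ((1 : K) ⊗ₜ[k] f x) := by rw [TensorProduct.smul_tmul', smul_eq_mul, mul_one]
    simp only [LinearMap.comp_apply, LinearMap.baseChange_tmul]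
    rw [e, e', map_smul, map_smul, map_smul, hf]
  constructor
  · refine le_antisymm (Submodule.span_le.2 ?_) fun y hy => ?_
    · rintro _ ⟨x, hx, rfl⟩
      show f' (ΦM (1 ⊗ₜ x)) = 0
      rw [hf, LinearMap.mem_ker.1 hx, TensorProduct.tmul_zero, map_zero]
    · obtain ⟨z, rfl⟩ := hM.2 y
      have h0 : f.baseChange K z = 0 := hN.1 (by
        rw [← LinearMap.comp_apply, ← hcomm, map_zero]; exact hy)
      have hex : Function.Exact ((LinearMap.ker f).subtype.lTensor K) (f.lTensor K) :=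
        Module.Flat.lTensor_exact K f.exact_subtype_ker_map
      obtain ⟨w, rfl⟩ := (hex z).1 h0
      clear h0 hy
      induction w using TensorProduct.induction_on with
      | zero => simp
      | tmul s x =>
        rw [LinearMap.lTensor_tmul, show s ⊗ₜ[k] (LinearMap.ker f).subtype x = s • ((1 : K) ⊗ₜ[k] (x : M)) by
          rw [TensorProduct.smul_tmul', smul_eq_mul, mul_one]; rfl, map_smul]
        exact Submodule.smul_mem _ _ (Submodule.subset_span ⟨x, x.2, rfl⟩)
      | add a b ha hb => rw [map_add, map_add]; exact add_mem ha hb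
  · refine le_antisymm (Submodule.span_le.2 ?_) ?_
    · rintro _ ⟨_, ⟨x, rfl⟩, rfl⟩
      exact ⟨ΦM (1 ⊗ₜ x), hf x⟩
    · rintro _ ⟨y, rfl⟩
      obtain ⟨z, rfl⟩ := hM.2 y
      rw [← LinearMap.comp_apply, hcomm, LinearMap.comp_apply]
      induction z using TensorProduct.induction_on with
      | zero => simp
      | tmul s x =>
        rw [LinearMap.baseChange_tmul, show s ⊗ₜ[k] f x = s • ((1 : K) ⊗ₜ[k] f x) by
          rw [TensorProduct.smul_tmul', smul_eq_mul, mul_one], map_smul]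
        exact Submodule.smul_mem _ _ (Submodule.subset_span ⟨f x, ⟨x, rfl⟩, rfl⟩)
      | add a b ha hb => rw [map_add, map_add]; exact add_mem ha hb

end Abstract

variable (k K : Type u) [Field k] [Field K] [Algebra k K]
    (A A' : Type u) [CommRing A] [CommRing A'] [Algebra k A]
    [Algebra A A'] [Algebra k A'] [IsScalarTower k A A'] [Algebra K A'] [IsScalarTower k K A']
    [Algebra.IsPushout k K A A']
    (ψ : ∀ p : ℕ, ↥(⋀[A]^p (Ω[A⁄k])) →+ ↥(⋀[A']^p (Ω[A'⁄K])))
    (hψ : DeRham.IsCxMap (KaehlerDifferential.D k A) (KaehlerDifferential.D K A') (algebraMap A A') ψ)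

include hψ in
theorem exists_equiv (p : ℕ) : ∃ Φ : K ⊗[k] ↥(⋀[A]^p (Ω[A⁄k])) →ₗ[K] ↥(⋀[A']^p (Ω[A'⁄K])),
    Function.Bijective Φ ∧ ∀ x, Φ (1 ⊗ₜ x) = ψ p x := by
  have hψ' : ψ p = (DeRhamBasic.cxMap k K A A' p).toAddMonoidHom :=
    DeRhamBasic.isCxMap_unique hψ (DeRhamBasic.cxMap_isCxMap k K A A') p
  let L : ↥(⋀[A]^p (Ω[A⁄k])) →ₗ[k] ↥(⋀[A']^p (Ω[A'⁄K])) :=
    { toFun := ψ p
      map_add' := map_add _
      map_smul' := fun c x => by
        rw [hψ', LinearMap.toAddMonoidHom_coe, RingHom.id_apply, ← algebraMap_smul A c x, map_smul,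
          ← IsScalarTower.algebraMap_smul A' (algebraMap k A c), ← IsScalarTower.algebraMap_apply,
          algebraMap_smul] }
  refine ⟨L.liftBaseChange K, ?_, fun x => by simp [L]⟩
  exact DeRhamBasic.bijective_of_isCxMap k K A A' ψ hψ p (L.liftBaseChange K).toAddMonoidHom fun s x => by
    simp [L]

variable (d : ∀ p : ℕ, ↥(⋀[A]^p (Ω[A⁄k])) →ₗ[k] ↥(⋀[A]^(p + 1) (Ω[A⁄k])))
  (d' : ∀ p : ℕ, ↥(⋀[A']^p (Ω[A'⁄K])) →ₗ[K] ↥(⋀[A']^(p + 1) (Ω[A'⁄K])))

include hψ in
theorem spans (hcomm : ∀ (p : ℕ) (x : ↥(⋀[A]^p (Ω[A⁄k]))), ψ (p + 1) (d p x) = d' p (ψ p x)) (p : ℕ) :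
    Submodule.span K (ψ p '' (DeRham.cocycles d p : Set ↥(⋀[A]^p (Ω[A⁄k])))) = DeRham.cocycles d' p ∧
      Submodule.span K (ψ p '' (DeRham.coboundaries d p : Set ↥(⋀[A]^p (Ω[A⁄k])))) =
        DeRham.coboundaries d' p := by
  choose Φ hΦ hΦ1 using exists_equiv k K A A' ψ hψ
  have h := fun q => main (Φ q) (hΦ q) (Φ (q + 1)) (hΦ (q + 1)) (d q) (d' q)
    (fun x => by rw [hΦ1, hΦ1]; exact (hcomm q x).symm)
  constructor
  · have h1 := (h p).1
    simp only [hΦ1] at h1
    exact h1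
  · cases p with
    | zero => simp [DeRham.coboundaries]
    | succ q =>
      have h2 := (h q).2
      simp only [hΦ1] at h2
      exact h2

end Groth.Agent.DeRhamFieldExt
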